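import Groth.Agent.GrothSS.PageOneAcyclic
import Mathlib.CategoryTheory.Limits.Preserves.Shapes.Biproducts
import Mathlib.CategoryTheory.Abelian.Exact

/-!
The spectral sequence of the standard resolution of an exact endofunctor with a split unit: its first
page is given by the powers of the endofunctor (padding by acyclic two-term complexes).
-/

set_option autoImplicit false
set_option linter.style.haveILetI false
set_option linter.unusedSectionVars false
set_option backward.isDefEq.respectTransparency false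
set_option backward.isDefEq.respectTransparency.types false

universe v v' u u'

open CategoryTheory Category Limits
open scoped ZeroObject

namespace Groth.Agent.MonadSS

variable {A : Type u} [Category.{v} A] [Abelian A]

/-- rearrangement of summands -/
noncomputable def shuffle (a b c d e f : A) : (a ⊞ (b ⊞ c)) ⊞ (d ⊞ (e ⊞ f)) ≅ d ⊞ (c ⊞ (a ⊞ (b ⊞ (e ⊞ f)))) where
  hom := biprod.lift (biprod.snd ≫ biprod.fst) (biprod.lift (biprod.fst ≫ biprod.snd ≫ biprod.snd)
    (biprod.lift (biprod.fst ≫ biprod.fst) (biprod.lift (biprod.fst ≫ biprod.snd ≫ biprod.fst)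
      (biprod.snd ≫ biprod.snd))))
  inv := biprod.lift (biprod.lift (biprod.snd ≫ biprod.snd ≫ biprod.fst)
      (biprod.lift (biprod.snd ≫ biprod.snd ≫ biprod.snd ≫ biprod.fst) (biprod.snd ≫ biprod.fst)))
    (biprod.lift biprod.fst (biprod.snd ≫ biprod.snd ≫ biprod.snd ≫ biprod.snd))
  hom_inv_id := by
    apply biprod.hom_ext
    · apply biprod.hom_ext
      · simp
      · apply biprod.hom_ext <;> simp
    · apply biprod.hom_ext <;> simp
  inv_hom_id := by
    apply biprod.hom_ext
    · simp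
    · apply biprod.hom_ext
      · simp
      · apply biprod.hom_ext
        · simp
        · apply biprod.hom_ext <;> simp

variable (T : A ⥤ A) [T.Additive] (η : 𝟭 A ⟶ T)

/-- the iterates -/
def it : ℕ → A → A
  | 0, X => T.obj X
  | p + 1, X => T.obj (it p X)

/-- the successive cokernels -/
noncomputable def ker' (F : A) : ℕ → A
  | 0 => F
  | p + 1 => cokernel (η.app (ker' F p))

/-- the padding objects -/
noncomputable def pad (F : A) : ℕ → ℕ → A
  | 0, _ => 0
  | 1, _ => 0
  | p + 2, i => T.obj (ker' T η F (i + p)) ⊞ (pad F p i ⊞ (pad F p (i + 1) ⊞ pad F (p + 1) (i + 1)))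

variable (hsplit : ∀ K, ∃ r : T.obj (T.obj K) ⟶ T.obj K, T.map (η.app K) ≫ r = 𝟙 _)
  (hmono : ∀ K, Mono (η.app K)) [PreservesFiniteLimits T] [PreservesFiniteColimits T]

include hsplit hmono in
theorem nonempty_it_succ (X : A) : ∀ p, Nonempty (it T (p + 1) X ≅ it T p X ⊞ it T p (cokernel (η.app X))) := by
  intro p
  induction p with
  | zero =>
    haveI := hmono X
    haveI : T.PreservesHomology := Functor.preservesHomologyOfExact T
    let S := ShortComplex.mk (η.app X) (cokernel.π (η.app X)) (cokernel.condition _)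
    have hS : S.ShortExact :=
      { exact := ShortComplex.exact_cokernel _, mono_f := hmono X, epi_g := inferInstance }
    have hTS := hS.map_of_exact T
    obtain ⟨r, hr⟩ := hsplit X
    haveI := hTS.epi_g
    exact ⟨(ShortComplex.Splitting.ofExactOfRetraction _ hTS.exact r hr inferInstance).isoBinaryBiproduct⟩
  | succ p ih =>
    obtain ⟨e⟩ := ih
    haveI : PreservesBinaryBiproducts T := preservesBinaryBiproducts_of_preservesBiproducts T
    exact ⟨T.mapIso e ≪≫ T.mapBiprod _ _⟩

include hsplit hmono in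
theorem nonempty_it_iso (F : A) : ∀ p i, Nonempty (it T p (ker' T η F i) ≅
    T.obj (ker' T η F (i + p)) ⊞ (pad T η F p i ⊞ pad T η F (p + 1) i)) := by
  intro p
  induction p with
  | zero =>
    intro i
    exact ⟨{ hom := biprod.lift (𝟙 _) 0
             inv := biprod.fst
             hom_inv_id := by simp [it]
             inv_hom_id := biprod.hom_ext _ _ (by simp)
               (biprod.hom_ext _ _ ((isZero_zero A).eq_of_tgt _ _) ((isZero_zero A).eq_of_tgt _ _)) }⟩
  | succ p ih =>
    intro i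
    obtain ⟨e⟩ := nonempty_it_succ T η hsplit hmono (ker' T η F i) p
    obtain ⟨a⟩ := ih i
    obtain ⟨b⟩ := ih (i + 1)
    have hi : i + 1 + p = i + (p + 1) := by omega
    exact ⟨e ≪≫ biprod.mapIso a b ≪≫ shuffle _ _ _ _ _ _ ≪≫
      biprod.mapIso (eqToIso (by rw [hi])) (Iso.refl _)⟩

variable [HasInjectiveResolutions A] {B : Type u'} [Category.{v'} B] [Abelian B] (Γ : A ⥤ B) [Γ.Additive]

include hsplit hmono in
/-- The spectral sequence. -/
theorem exists_ss (F : A) (H : ℕ → B) (E1 : ℕ → ℕ → B) (Z : B) (hZ : IsZero Z)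
    (eH : ∀ n, Nonempty ((Γ.rightDerived n).obj F ≅ H n))
    (e1 : ∀ p q, Nonempty ((Γ.rightDerived q).obj (it T p F) ≅ E1 p q)) :
    ∃ (E : CohomologicalSpectralSequence B 1)
      (a : SpSeq.Abutment E (fun n : ℤ => if 0 ≤ n then H n.toNat else Z)),
      (∀ n, a.IsFinite n) ∧ SpSeq.IsBounded E ∧
        ∀ p q : ℤ, Nonempty ((E.page 1 le_rfl).X (p, q) ≅
          (if 0 ≤ p ∧ 0 ≤ q then E1 p.toNat q.toNat else Z)) := by
  let K := ker' T η F
  let P := fun p => pad T η F p 0
  let D : ℕ → A := fun p => T.obj (K p) ⊞ (P p ⊞ P (p + 1))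
  let π : ∀ p, T.obj (K p) ⟶ K (p + 1) := fun p => cokernel.π (η.app (K p))
  let d : ∀ p, D p ⟶ D (p + 1) := fun p =>
    biprod.lift (biprod.fst ≫ π p ≫ η.app (K (p + 1))) (biprod.lift (biprod.snd ≫ biprod.snd) 0)
  let ε : F ⟶ D 0 := biprod.lift (η.app F) 0
  have hηπ : ∀ p, η.app (K p) ≫ π p = 0 := fun p => cokernel.condition _
  have hd : ∀ p, d p ≫ d (p + 1) = 0 := fun p => by
    apply biprod.hom_ext
    · simp [d, reassoc_of% (hηπ (p + 1))]
    · apply biprod.hom_ext <;> simp [d]
  have hπ0 : η.app F ≫ π 0 = 0 := hηπ 0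
  have hε : ε ≫ d 0 = 0 := by
    apply biprod.hom_ext
    · simp [d, ε, reassoc_of% hπ0]
    · apply biprod.hom_ext <;> simp [d, ε]
  have hεm : Mono ε := by
    haveI := hmono F
    exact mono_of_mono_fac (show ε ≫ biprod.fst = η.app F by simp [ε])
  have hker : ∀ (p : ℕ) {W : A} (c : W ⟶ T.obj (K p)) (_ : c ≫ π p ≫ η.app (K (p + 1)) = 0),
      ∃ (W' : A) (w : W' ⟶ W) (_ : Epi w) (y : W' ⟶ K p), w ≫ c = y ≫ η.app (K p) := by
    intro p W c hc
    haveI := hmono (K (p + 1))
    have hc' : c ≫ π p = 0 := by rw [← cancel_mono (η.app (K (p + 1))), assoc, hc, zero_comp]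
    exact (ShortComplex.exact_cokernel (η.app (K p))).exact_up_to_refinements c hc'
  have h0 : (ShortComplex.mk ε (d 0) hε).Exact := by
    rw [ShortComplex.exact_iff_exact_up_to_refinements]
    intro W x hx
    change W ⟶ D 0 at x
    change x ≫ d 0 = 0 at hx
    have hc : (x ≫ biprod.fst) ≫ π 0 ≫ η.app (K 1) = 0 := by simpa [d] using hx =≫ biprod.fst
    have hb : x ≫ biprod.snd ≫ biprod.snd = 0 := by simpa [d] using hx =≫ (biprod.snd ≫ biprod.fst)
    obtain ⟨W', w, hw, y, hy⟩ := hker 0 (x ≫ biprod.fst) hc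
    refine ⟨W', w, hw, y, ?_⟩
    change w ≫ x = y ≫ ε
    apply biprod.hom_ext
    · rw [assoc, hy]; simp [ε, K, ker']
    · apply biprod.hom_ext
      · exact (isZero_zero A).eq_of_tgt _ _
      · simp [ε, hb]
  have hex : ∀ p, (ShortComplex.mk (d p) (d (p + 1)) (hd p)).Exact := fun p => by
    rw [ShortComplex.exact_iff_exact_up_to_refinements]
    intro W x hx
    change W ⟶ D (p + 1) at x
    change x ≫ d (p + 1) = 0 at hx
    have hc : (x ≫ biprod.fst) ≫ π (p + 1) ≫ η.app (K (p + 1 + 1)) = 0 := by simpa [d] using hx =≫ biprod.fst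
    have hb : x ≫ biprod.snd ≫ biprod.snd = 0 := by simpa [d] using hx =≫ (biprod.snd ≫ biprod.fst)
    obtain ⟨W', w, hw, y, hy⟩ := hker (p + 1) (x ≫ biprod.fst) hc
    obtain ⟨W'', w', hw', c₀, hc₀⟩ := surjective_up_to_refinements_of_epi (π p) y
    refine ⟨W'', w' ≫ w, inferInstance,
      biprod.lift c₀ (biprod.lift 0 (w' ≫ w ≫ x ≫ biprod.snd ≫ biprod.fst)), ?_⟩
    change (w' ≫ w) ≫ x = _ ≫ d p
    apply biprod.hom_ext
    · simp only [d, assoc, biprod.lift_fst, biprod.lift_fst_assoc]
      rw [hy, ← assoc, hc₀, assoc]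
    · apply biprod.hom_ext
      · simp [d]
      · simp [d, hb]
  refine GrothSS.exists_pageOne_resolution Γ D d hd F ε hε hεm h0 hex H E1 Z hZ eH fun p q => ?_
  obtain ⟨e⟩ := nonempty_it_iso T η hsplit hmono F p 0
  exact ⟨(Γ.rightDerived q).mapIso ((biprod.mapIso (eqToIso (congrArg (fun n => T.obj (K n)) (Nat.zero_add p).symm)) (Iso.refl _)) ≪≫ e.symm) ≪≫ (e1 p q).some⟩

end Groth.Agent.MonadSS
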