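import Groth.Agent.MonadSS.Basic

/-!
The spectral sequence of a monad preserving injectives, computed on an injective resolution.
-/

set_option autoImplicit false
set_option linter.style.haveILetI false
set_option linter.unusedSectionVars false
set_option backward.isDefEq.respectTransparency false
set_option backward.isDefEq.respectTransparency.types false

universe v v' u u'

open CategoryTheory Category Limits
open scoped ZeroObject

namespace Groth.Agent.MonadSS

section Formal

variable {A : Type u} [Category.{v} A] [Abelian A] (T : A ⥤ A) [T.Additive] (η : 𝟭 A ⟶ T)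

theorem nonempty_it_iso' (F : A)
    (hstep : ∀ i, Nonempty (T.obj (T.obj (ker' T η F i)) ≅
      T.obj (ker' T η F i) ⊞ T.obj (ker' T η F (i + 1)))) :
    ∀ p i, Nonempty (it T p (ker' T η F i) ≅
      T.obj (ker' T η F (i + p)) ⊞ (pad T η F p i ⊞ pad T η F (p + 1) i)) := by
  haveI : PreservesBinaryBiproducts T := preservesBinaryBiproducts_of_preservesBiproducts T
  have h1 : ∀ i p, Nonempty (it T (p + 1) (ker' T η F i) ≅
      it T p (ker' T η F i) ⊞ it T p (ker' T η F (i + 1))) := by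
    intro i p
    induction p with
    | zero => exact hstep i
    | succ p ih =>
      obtain ⟨e⟩ := ih
      exact ⟨T.mapIso e ≪≫ T.mapBiprod _ _⟩
  intro p
  induction p with
  | zero =>
    intro i
    exact ⟨{ hom := biprod.lift (𝟙 _) 0
             inv := biprod.fst
             hom_inv_id := by simp [it]
             inv_hom_id := biprod.hom_ext _ _ (by simp)
               (biprod.hom_ext _ _ ((isZero_zero A).eq_of_tgt _ _) ((isZero_zero A).eq_of_tgt _ _)) }⟩
  | succ p ih =>
    intro i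
    obtain ⟨e⟩ := h1 i p
    obtain ⟨a⟩ := ih i
    obtain ⟨b⟩ := ih (i + 1)
    have hi : i + 1 + p = i + (p + 1) := by omega
    exact ⟨e ≪≫ biprod.mapIso a b ≪≫ shuffle _ _ _ _ _ _ ≪≫
      biprod.mapIso (eqToIso (by rw [hi])) (Iso.refl _)⟩

end Formal

variable {A : Type u} [Category.{v} A] [Abelian A] [HasInjectiveResolutions A]
  {B : Type u'} [Category.{v'} B] [Abelian B]

/-- the iterates, as functors -/
def itF (T : A ⥤ A) : ℕ → (A ⥤ A)
  | 0 => T
  | p + 1 => itF T p ⋙ T

instance additive_itF (T : A ⥤ A) [hT : T.Additive] : ∀ p, (itF T p).Additive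
  | 0 => hT
  | p + 1 => by
    haveI := additive_itF T p
    exact inferInstanceAs (itF T p ⋙ T).Additive

variable (T : A ⥤ A) [T.Additive] (η : 𝟭 A ⟶ T)

/-- the functor on complexes -/
noncomputable abbrev Tc : CochainComplex A ℕ ⥤ CochainComplex A ℕ :=
  T.mapHomologicalComplex (ComplexShape.up ℕ)

/-- the unit on complexes -/
noncomputable def ηc : 𝟭 (CochainComplex A ℕ) ⟶ Tc T :=
  (Functor.mapHomologicalComplexIdIso A (ComplexShape.up ℕ)).inv ≫
    NatTrans.mapHomologicalComplex η (ComplexShape.up ℕ)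

theorem ηc_f (K : CochainComplex A ℕ) (n : ℕ) : ((ηc T η).app K).f n = η.app (K.X n) := by
  simp [ηc]

theorem nonempty_it_mapHC (X : CochainComplex A ℕ) : ∀ p,
    Nonempty (it (Tc T) p X ≅ ((itF T p).mapHomologicalComplex (ComplexShape.up ℕ)).obj X) := by
  intro p
  induction p with
  | zero => exact ⟨Iso.refl _⟩
  | succ p ih =>
    obtain ⟨e⟩ := ih
    exact ⟨(Tc T).mapIso e ≪≫ HomologicalComplex.Hom.isoOfComponents (fun n => Iso.refl _)
      (fun i j _ => by simp [itF])⟩

variable (hinj : ∀ I : A, Injective I → Injective (T.obj I)) (hmono : ∀ X, Mono (η.app X))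
  (Γ : A ⥤ B) [Γ.Additive]

include hinj hmono in
/-- The spectral sequence. -/
theorem exists_ss_inj (ρ : T ⋙ T ⟶ T) (hρ : ∀ X, T.map (η.app X) ≫ ρ.app X = 𝟙 _)
    (G : A) (H : ℕ → B) (E1 : ℕ → ℕ → B) (Z : B) (hZ : IsZero Z)
    (eH : ∀ n, Nonempty ((Γ.rightDerived n).obj G ≅ H n))
    (e1 : ∀ p q, Nonempty (((itF T p ⋙ Γ).rightDerived q).obj G ≅ E1 p q)) :
    ∃ (E : CohomologicalSpectralSequence B 1)
      (a : SpSeq.Abutment E (fun n : ℤ => if 0 ≤ n then H n.toNat else Z)),
      (∀ n, a.IsFinite n) ∧ SpSeq.IsBounded E ∧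
        ∀ p q : ℤ, Nonempty ((E.page 1 le_rfl).X (p, q) ≅
          (if 0 ≤ p ∧ 0 ≤ q then E1 p.toNat q.toNat else Z)) := by
  let R : InjectiveResolution G := injectiveResolution G
  let K : ℕ → CochainComplex A ℕ := ker' (Tc T) (ηc T η) R.cocomplex
  let P : ℕ → CochainComplex A ℕ := fun p => pad (Tc T) (ηc T η) R.cocomplex p 0
  let π : ∀ p, (Tc T).obj (K p) ⟶ K (p + 1) := fun p => cokernel.π ((ηc T η).app (K p))
  have hηπ : ∀ p, (ηc T η).app (K p) ≫ π p = 0 := fun p => cokernel.condition _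
  let S : ℕ → ShortComplex (CochainComplex A ℕ) := fun p => ShortComplex.mk _ (π p) (hηπ p)
  have hS : ∀ p, (S p).ShortExact := fun p => by
    haveI : ∀ n, Mono (((ηc T η).app (K p)).f n) := fun n => by rw [ηc_f]; exact hmono _
    haveI : Mono ((ηc T η).app (K p)) := HomologicalComplex.mono_of_mono_f _ inferInstance
    exact { exact := ShortComplex.exact_cokernel _, mono_f := inferInstanceAs (Mono ((ηc T η).app (K p))),
            epi_g := inferInstanceAs (Epi (cokernel.π _)) }
  have hSn : ∀ p n, ((S p).map (HomologicalComplex.eval A (ComplexShape.up ℕ) n)).ShortExact :=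
    fun p n => (hS p).map_of_exact _
  have hKinj : ∀ p n, Injective ((K p).X n) := by
    intro p
    induction p with
    | zero => exact fun n => R.injective n
    | succ p ih =>
      intro n
      haveI : Injective ((S p).map (HomologicalComplex.eval A (ComplexShape.up ℕ) n)).X₁ := ih n
      haveI : Injective (((Tc T).obj (K p)).X n) := hinj _ (ih n)
      let s := (hSn p n).splittingOfInjective
      exact Retract.injective
        { i := s.s, r := ((S p).map (HomologicalComplex.eval A (ComplexShape.up ℕ) n)).g, retract := s.s_g :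
          Retract ((K (p + 1)).X n) (((Tc T).obj (K p)).X n) }
  let spl : ∀ p n, ((S p).map (HomologicalComplex.eval A (ComplexShape.up ℕ) n)).Splitting := fun p n =>
    haveI : Injective ((S p).map (HomologicalComplex.eval A (ComplexShape.up ℕ) n)).X₁ := hKinj p n
    (hSn p n).splittingOfInjective
  have hstep : ∀ i, Nonempty ((Tc T).obj ((Tc T).obj (K i)) ≅
      (Tc T).obj (K i) ⊞ (Tc T).obj (K (i + 1))) := fun i => by
    have hT : ((S i).map (Tc T)).ShortExact :=
      HomologicalComplex.shortExact_of_degreewise_shortExact _ fun n => ((spl i n).map T).shortExact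
    let r : (Tc T).obj ((Tc T).obj (K i)) ⟶ (Tc T).obj (K i) :=
      { f := fun n => ρ.app ((K i).X n)
        comm' := fun a b _ => (ρ.naturality ((K i).d a b)).symm }
    have hr : ((S i).map (Tc T)).f ≫ r = 𝟙 _ := HomologicalComplex.hom_ext _ _ fun n => by
      change T.map (((ηc T η).app (K i)).f n) ≫ ρ.app ((K i).X n) = 𝟙 _
      rw [ηc_f]
      exact hρ _
    haveI := hT.epi_g
    exact ⟨(ShortComplex.Splitting.ofExactOfRetraction _ hT.exact r hr inferInstance).isoBinaryBiproduct⟩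
  let ι : ∀ p, K p ⊞ P p ⟶ (Tc T).obj (K p) ⊞ (P p ⊞ P (p + 1)) := fun p =>
    biprod.lift (biprod.fst ≫ (ηc T η).app (K p)) (biprod.lift biprod.snd 0)
  let σ : ∀ p, (Tc T).obj (K p) ⊞ (P p ⊞ P (p + 1)) ⟶ K (p + 1) ⊞ P (p + 1) := fun p =>
    biprod.lift (biprod.fst ≫ π p) (biprod.snd ≫ biprod.snd)
  have w : ∀ p, ι p ≫ σ p = 0 := fun p => by
    apply biprod.hom_ext
    · simp [ι, σ, hηπ]
    · simp [ι, σ]
  let ev := fun n => HomologicalComplex.eval A (ComplexShape.up ℕ) n
  have hspl : ∀ p n, ∃ (r : ((Tc T).obj (K p)).X n ⟶ (K p).X n) (s : (K (p + 1)).X n ⟶ ((Tc T).obj (K p)).X n),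
      ((ηc T η).app (K p)).f n ≫ r = 𝟙 ((K p).X n) ∧ s ≫ (π p).f n = 𝟙 ((K (p + 1)).X n) ∧
      r ≫ ((ηc T η).app (K p)).f n + (π p).f n ≫ s = 𝟙 (((Tc T).obj (K p)).X n) := fun p n =>
    ⟨(spl p n).r, (spl p n).s, (spl p n).f_r, (spl p n).s_g, (spl p n).id⟩
  choose r0 s0 hr0 hs0 hid0 using hspl
  let spl' : ∀ p n, ((ShortComplex.mk (ι p) (σ p) (w p)).map (ev n)).Splitting := fun p n =>
    { r := (biprod.fst : (Tc T).obj (K p) ⊞ (P p ⊞ P (p + 1)) ⟶ _).f n ≫ r0 p n ≫
          (biprod.inl : K p ⟶ K p ⊞ P p).f n +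
        ((biprod.snd : (Tc T).obj (K p) ⊞ (P p ⊞ P (p + 1)) ⟶ _) ≫ biprod.fst ≫
          (biprod.inr : P p ⟶ K p ⊞ P p)).f n
      s := (biprod.fst : K (p + 1) ⊞ P (p + 1) ⟶ _).f n ≫ s0 p n ≫
          (biprod.inl : _ ⟶ (Tc T).obj (K p) ⊞ (P p ⊞ P (p + 1))).f n +
        ((biprod.snd : K (p + 1) ⊞ P (p + 1) ⟶ _) ≫ biprod.inr ≫
          (biprod.inr : _ ⟶ (Tc T).obj (K p) ⊞ (P p ⊞ P (p + 1)))).f n
      f_r := by
        have h1 := hr0 p n
        change (ι p).f n ≫ (_ + _) = 𝟙 _
        have h2 : (ι p).f n ≫ (biprod.fst : (Tc T).obj (K p) ⊞ (P p ⊞ P (p + 1)) ⟶ _).f n =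
            (biprod.fst : K p ⊞ P p ⟶ _).f n ≫ ((ηc T η).app (K p)).f n := by
          rw [← HomologicalComplex.comp_f, ← HomologicalComplex.comp_f]; simp [ι]
        have h3 : ι p ≫ biprod.snd ≫ biprod.fst = biprod.snd := by simp [ι]
        rw [Preadditive.comp_add, reassoc_of% h2, reassoc_of% h1, ← HomologicalComplex.comp_f,
          ← HomologicalComplex.comp_f, ← HomologicalComplex.add_f_apply, reassoc_of% h3, biprod.total]
        rfl
      s_g := by
        have h1 := hs0 p n
        change (_ + _) ≫ (σ p).f n = 𝟙 _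
        have h2 : (biprod.inl : _ ⟶ (Tc T).obj (K p) ⊞ (P p ⊞ P (p + 1))).f n ≫ (σ p).f n =
            (π p).f n ≫ (biprod.inl : _ ⟶ K (p + 1) ⊞ P (p + 1)).f n := by
          rw [← HomologicalComplex.comp_f, ← HomologicalComplex.comp_f]
          congr 1
          apply biprod.hom_ext <;> simp [σ]
        have h3 : biprod.inr ≫ biprod.inr ≫ σ p = biprod.inr := by
          apply biprod.hom_ext <;> simp [σ]
        rw [Preadditive.add_comp, assoc, assoc, h2, reassoc_of% h1, ← HomologicalComplex.comp_f,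
          ← HomologicalComplex.comp_f, ← HomologicalComplex.add_f_apply, assoc, assoc, h3, biprod.total]
        rfl
      id := by
        have h1 := hid0 p n
        change (_ + _ : ((Tc T).obj (K p) ⊞ (P p ⊞ P (p + 1))).X n ⟶ (K p ⊞ P p).X n) ≫ (ι p).f n +
          (σ p).f n ≫ (_ + _ : (K (p + 1) ⊞ P (p + 1)).X n ⟶ ((Tc T).obj (K p) ⊞ (P p ⊞ P (p + 1))).X n) = 𝟙 (((Tc T).obj (K p) ⊞ (P p ⊞ P (p + 1))).X n)
        have h2 : (biprod.inl : K p ⟶ K p ⊞ P p).f n ≫ (ι p).f n = ((ηc T η).app (K p)).f n ≫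
            (biprod.inl : _ ⟶ (Tc T).obj (K p) ⊞ (P p ⊞ P (p + 1))).f n := by
          rw [← HomologicalComplex.comp_f, ← HomologicalComplex.comp_f]
          congr 1
          apply biprod.hom_ext
          · simp [ι]
          · apply biprod.hom_ext <;> simp [ι]
        have h3 : (σ p).f n ≫ (biprod.fst : K (p + 1) ⊞ P (p + 1) ⟶ _).f n =
            (biprod.fst : (Tc T).obj (K p) ⊞ (P p ⊞ P (p + 1)) ⟶ _).f n ≫ (π p).f n := by
          rw [← HomologicalComplex.comp_f, ← HomologicalComplex.comp_f]; simp [σ]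
        have h4 : biprod.snd ≫ biprod.fst ≫ biprod.inr ≫ ι p +
            σ p ≫ biprod.snd ≫ biprod.inr ≫ biprod.inr =
            (biprod.snd : (Tc T).obj (K p) ⊞ (P p ⊞ P (p + 1)) ⟶ _) ≫ biprod.inr := by
          apply biprod.hom_ext
          · simp [ι, σ]
          · apply biprod.hom_ext <;> simp [ι, σ]
        rw [Preadditive.add_comp, Preadditive.comp_add, assoc, assoc, h2, reassoc_of% h3,
          ← HomologicalComplex.comp_f (f := biprod.snd ≫ biprod.fst ≫ biprod.inr),
          ← HomologicalComplex.comp_f (f := σ p), add_add_add_comm, ← Preadditive.comp_add,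
          ← assoc (r0 p n), ← assoc ((π p).f n), ← Preadditive.add_comp, h1, id_comp, ← HomologicalComplex.comp_f,
          ← HomologicalComplex.add_f_apply, assoc, assoc, h4, ← HomologicalComplex.add_f_apply,
          biprod.total]
        rfl }
  let e := ComplexShape.embeddingUpNat
  let Φ : CochainComplex A ℕ ⥤ CochainComplex B ℤ :=
    Γ.mapHomologicalComplex (ComplexShape.up ℕ) ⋙ e.extendFunctor B
  let K' : ℕ → CochainComplex B ℤ := fun p => Φ.obj (K p ⊞ P p)
  let M' : ℕ → CochainComplex B ℤ := fun p => Φ.obj ((Tc T).obj (K p) ⊞ (P p ⊞ P (p + 1)))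
  have w' : ∀ p, Φ.map (ι p) ≫ Φ.map (σ p) = 0 := fun p => by
    rw [← Φ.map_comp, w, Φ.map_zero]
  have hS' : ∀ p, (ShortComplex.mk (Φ.map (ι p)) (Φ.map (σ p)) (w' p)).ShortExact := fun p =>
    GrothSS.shortExact_extend _ (HomologicalComplex.shortExact_of_degreewise_shortExact
      ((ShortComplex.mk (ι p) (σ p) (w p)).map (Γ.mapHomologicalComplex (ComplexShape.up ℕ)))
      fun n => ((spl' p n).map Γ).shortExact)
  have hGE : ∀ X : CochainComplex A ℕ, (Φ.obj X).IsStrictlyGE 0 := fun X => by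
    rw [CochainComplex.isStrictlyGE_iff]
    exact fun i hi => HomologicalComplex.isZero_extend_X _ e i fun j hj => by
      change (j : ℤ) = i at hj
      omega
  haveI : ∀ p, (K' p).IsStrictlyGE 0 := fun p => hGE _
  haveI : ∀ p, (M' p).IsStrictlyGE 0 := fun p => hGE _
  refine GrothSS.exists_pageOne K' M' (fun p => Φ.map (ι p)) (fun p => Φ.map (σ p)) w' hS' _ (fun n => ?_)
    (fun p q => if 0 ≤ p ∧ 0 ≤ q then E1 p.toNat q.toNat else Z) (fun p q => ?_)
    (fun p q h => by rw [if_neg (by omega)]; exact hZ)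
  · rcases lt_or_ge n 0 with hn | hn
    · refine ⟨(GrothSS.exactAt_of_lt (K' 0) 0 n hn).isZero_homology.iso ?_⟩
      rw [if_neg (by omega)]
      exact hZ
    · obtain ⟨n, rfl⟩ := Int.eq_ofNat_of_zero_le hn
      let i : K 0 ⊞ P 0 ≅ R.cocomplex :=
        { hom := biprod.fst
          inv := biprod.inl
          hom_inv_id := biprod.hom_ext _ _ (by rw [assoc, id_comp]; exact (congrArg (biprod.fst ≫ ·) biprod.inl_fst).trans (comp_id _))
            ((show IsZero (P 0) from isZero_zero _).eq_of_tgt _ _)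
          inv_hom_id := biprod.inl_fst }
      exact ⟨(HomologicalComplex.homologyFunctor _ _ _).mapIso (Φ.mapIso i) ≪≫
        HomologicalComplex.extendHomologyIso _ e (j := n) rfl ≪≫ (R.isoRightDerivedObj Γ n).symm ≪≫
        (eH n).some ≪≫ eqToIso (if_pos (Int.natCast_nonneg n)).symm⟩
  · obtain ⟨a⟩ := nonempty_it_iso' (Tc T) (ηc T η) R.cocomplex hstep p 0
    obtain ⟨b⟩ := nonempty_it_mapHC T R.cocomplex p
    let i : (Tc T).obj (K p) ⊞ (P p ⊞ P (p + 1)) ≅
        ((itF T p).mapHomologicalComplex (ComplexShape.up ℕ)).obj R.cocomplex :=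
      biprod.mapIso (eqToIso (congrArg (fun n => (Tc T).obj (K n)) (Nat.zero_add p).symm)) (Iso.refl _) ≪≫
        a.symm ≪≫ b
    exact ⟨(HomologicalComplex.homologyFunctor _ _ _).mapIso (Φ.mapIso i) ≪≫
      HomologicalComplex.extendHomologyIso _ e (j := q) rfl ≪≫
      (R.isoRightDerivedObj (itF T p ⋙ Γ) q).symm ≪≫ (e1 p q).some ≪≫
      eqToIso (if_pos ⟨Int.natCast_nonneg p, Int.natCast_nonneg q⟩).symm⟩

end Groth.Agent.MonadSS
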